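import Groth.Agent.HilbSCLib.PushLF
import Groth.Agent.MultSecLib.Basic
import Groth.Agent.FacDescLib.Main
import Groth.Agent.PerfBaseLib.SplitSheaf
import Groth.Agent.MiscFlat6.RelAmpleLocal
import Groth.Agent.HensSchFFLib.Hom
import Groth.Agent.CubeConsLib.IsoCls
import Groth.Agent.EGA2SymLib.CompVA
import Groth.Agent.S1027
import Groth.Agent.PerfLib.Restrict
import Groth.Agent.DepthLib.SkOpen

/-!
# Flatness of the target of a contraction
-/

set_option autoImplicit false
set_option linter.style.haveILetI false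
set_option backward.isDefEq.respectTransparency false
set_option backward.isDefEq.respectTransparency.types false
set_option maxHeartbeats 1000000

universe u

open CategoryTheory CategoryTheory.Limits AlgebraicGeometry TopologicalSpace Opposite
open KFlatLib (pb)
open CubeConsLib (cl pull)

noncomputable section

namespace ContrFlatLib

theorem flat_of_isFlatOver_structure {X S : Scheme.{u}} (f : X ⟶ S)
    (h : FlatMod.IsFlatOver f (Coh.structureModule X)) : Flat f := by
  rw [Flat.iff_flat_stalkMap]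
  intro x
  exact (DepthLib.isFlatOverAt_structureModule_iff f x).1 (h x)

theorem flat_contraction {X X' S : Scheme.{u}} [IsNoetherian S]
    (φ : X ⟶ S) [IsProper φ] [Flat φ] [HasInjectiveResolutions X.Modules]
    (L : X.Modules) (hLi : PicF.IsInvertible L)
    (q : X' ⟶ S) [IsProper q] (ψ : X ⟶ X') (hψ : ψ ≫ q = φ) (hψO : ∀ U : X'.Opens, IsIso (ψ.app U))
    (N : X'.Modules) (hNi : PicF.IsInvertible N) (hN : RelAmple.IsRelAmple q N)
    (m : ℕ) (hm : 0 < m) (eN : Nonempty (pb ψ N ≅ CohB1.tensorPow L m))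
    (n : ℕ) (hn : 0 < n)
    (hvan : ∀ (i j : ℕ), 0 < i → 1 ≤ j → IsZero ((Coh.Rpush φ i).obj (CohB1.tensorPow L (j * n)))) :
    Flat q := by
  haveI : IsLocallyNoetherian X' := LocallyOfFiniteType.isLocallyNoetherian q
  haveI : IsLocallyNoetherian X := LocallyOfFiniteType.isLocallyNoetherian φ
  haveI : LocallyOfFinitePresentation q := inferInstance
  haveI : LocallyOfFinitePresentation φ := inferInstance
  haveI : Coh.IsQCoh (Coh.structureModule X') := QCohLib.isQCoh_unit
  have hN' := (MiscFlat6.isRelAmple_tensorPow_iff q hNi hn).1 hN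
  refine flat_of_isFlatOver_structure q ((HilbSCLib.flat_iff_push q hN'
    (CohCmpLib.rank_one_hyps (𝟙 X') (CohCmpLib.rank_one_structureModule X')).2.1).2 ⟨1, fun t ht => ?_⟩)
  let P := CohB1.tensorPow L (m * t * n)
  have hPi : PicF.IsInvertible P := AmpleThLib.tensorPow_isInvertible hLi _
  have hPf := CohCmpLib.rank_one_hyps φ ((CohCmpLib.invertible_iff_rank_one P).1 hPi)
  have hlf : FlatMod.IsFinLocFree ((Coh.push φ).obj P) :=
    Groth.Agent.S1027.result φ P hPf.2.1 hPf.2.2
      ⟨QCohLib.isClosed_support P (CurvLib.isCoh_of_isInvertible hPi).2, by infer_instance⟩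
      fun i hi => hvan i (m * t) hi (Nat.mul_pos hm (by omega))
  let B := CohB1.tensorPow (CohB1.tensorPow N n) t
  have hB : PicF.IsInvertible B := AmpleThLib.tensorPow_isInvertible (AmpleThLib.tensorPow_isInvertible hNi n) t
  obtain ⟨eP⟩ : Nonempty (CohB1.tensorMod (Coh.structureModule X) (pb ψ B) ≅ P) := by
    refine CubeConsLib.cl_eq_iff.1 ?_
    show (1 : CubeConsLib.IsoCls X) * pull ψ (cl B) = cl P
    have e0 : pull ψ (cl N) = cl L ^ m := by
      rw [CubeConsLib.pull_cl, ← EGA2SymLib.cl_tensorPow]; exact CubeConsLib.cl_eq_iff.2 eN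
    simp only [B, P, EGA2SymLib.cl_tensorPow, map_pow, e0, one_mul, ← pow_mul]
    congr 1
    ring
  haveI : IsIso (MultSecLib.proj ψ (Coh.structureModule X) B) := MultSecLib.isIso_proj ψ _ _ hB
  obtain ⟨eψ⟩ := FacDescLib.nonempty_push_structure ψ fun V =>
    (ConcreteCategory.isIso_iff_bijective _).1 (hψO V)
  let e : CohB1.tensorMod (Coh.structureModule X') B ≅ (Coh.push ψ).obj P :=
    HilbPolyLib.congrLeft eψ.symm B ≪≫ asIso (MultSecLib.proj ψ (Coh.structureModule X) B) ≪≫
      (Coh.push ψ).mapIso eP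
  exact Groth.Agent.PerfLib.isFinLocFree_of_iso
    (((Coh.push q).mapIso e ≪≫ (Scheme.Modules.pushforwardComp ψ q).app P ≪≫
      (Scheme.Modules.pushforwardCongr hψ).app P).symm) hlf

end ContrFlatLib

end
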